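import Groth.Agent.DualCx.LocalGlobal
import Groth.Agent.DualCx.Extended
import Groth.Agent.DualCx.Comp
import Groth.Agent.DualCx.FlatBC
import Groth.Agent.KFlat.TildeKFlat
import Groth.Agent.KFlat.TildeD
import Groth.Agent.KFlat.StalkD
import Groth.Agent.KFlat.Pull
import Groth.Agent.InjMod.Scheme
import Groth.Agent.InjMod.Affine
import Groth.Agent.Props.QTilde
import Groth.Agent.ProperFin.Projective
import Groth.Agent.CohDev.Coh
import Groth.Prelude.Def_DualSch
import Groth.Prelude.Def_DerSch

/-!
# A complex of bounded injectives with dualizing stalks is dualizing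
-/

set_option autoImplicit false
set_option linter.style.haveILetI false
set_option backward.isDefEq.respectTransparency.types false

universe u

open CategoryTheory CategoryTheory.Limits AlgebraicGeometry
open Groth.Agent.KFlat Groth.Agent.DualCx

attribute [local instance] HasDerivedCategory.standard

noncomputable section

namespace Groth.Agent.DualSchStalk

/-- Extension of scalars of a complex, in the derived category. -/
theorem nonempty_toD_extCx {A B : Type u} [CommRing A] [CommRing B] [Algebra A B] [Module.Flat A B]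
    (K : DRing.Cx A) :
    Nonempty ((DualCx.BaseChange.FD A B).obj (DRing.toD K) ≅
      DRing.toD ((KFlat.BaseChange.extCx (algebraMap A B)).obj K)) :=
  ⟨(DualCx.BaseChange.ext A B).mapDerivedCategoryFactors.app K⟩

/-- Dualizing complexes along a bijective ring map. -/
theorem isDualizing_extCx {A B : Type u} [CommRing A] [CommRing B] (φ : A →+* B) (hφ : Function.Bijective φ)
    (K : DRing.Cx A) (h : Dual.IsDualizing A (DRing.toD K)) :
    Dual.IsDualizing B (DRing.toD ((KFlat.BaseChange.extCx φ).obj K)) := by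
  letI := φ.toAlgebra
  let e : A ≃ₗ[A] B := LinearEquiv.ofBijective (Algebra.linearMap A B) hφ
  haveI : Module.Flat A B := Module.Flat.of_linearEquiv e.symm
  haveI := h.isNoetherianRing
  haveI : IsNoetherianRing B := isNoetherianRing_of_ringEquiv A (RingEquiv.ofBijective φ hφ)
  obtain ⟨i⟩ := nonempty_toD_extCx (B := B) K
  exact FlatBC.isDualizing_of_iso i (Extended.isDualizing h fun m _ => Ideal.map_comap_of_surjective _ hφ.2 m)

/-- A dualizing stalk complex, without the identity morphism. -/
theorem isDualizing_stCx {X : Scheme.{u}} (x : X) (I : CochainComplex X.Modules ℤ)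
    (h : Dual.IsDualizing (X.presheaf.stalk ((𝟙 X : X ⟶ X).base x)) (DRing.toD ((DerSch.stalkCxOver (𝟙 X) x).obj I))) :
    Dual.IsDualizing (X.presheaf.stalk x) (DRing.toD ((StalkCx.stCx x).obj I)) := by
  let c : DerSch.stalkOver (𝟙 X) x ≅ DerSch.stalkFunctor X x :=
    Functor.isoWhiskerLeft (DerSch.stalkFunctor X x)
      (ModuleCat.restrictScalarsId' _ (by rw [Scheme.Hom.stalkMap_id]; rfl)) ≪≫ Functor.rightUnitor _
  let e : DRing.toD ((DerSch.stalkCxOver (𝟙 X) x).obj I) ≅ DRing.toD ((StalkCx.stCx x).obj I) :=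
    DerivedCategory.Q.mapIso (HomologicalComplex.Hom.isoOfComponents (fun i => c.app (I.X i))
      fun i j _ => (c.hom.naturality (I.d i j)).symm)
  exact FlatBC.isDualizing_of_iso e h

/-- Isomorphic complexes in the derived category have isomorphic stalk complexes. -/
def stDIso {X : Scheme.{u}} (y : X) {P P' : CochainComplex X.Modules ℤ}
    (e : DerivedCategory.Q.obj P ≅ DerivedCategory.Q.obj P') :
    DRing.toD ((StalkCx.stCx y).obj P) ≅ DRing.toD ((StalkCx.stCx y).obj P') :=
  ((DerSch.stalkFunctor X y).mapDerivedCategoryFactors.app P).symm ≪≫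
    (DerSch.stalkFunctor X y).mapDerivedCategory.mapIso e ≪≫
    (DerSch.stalkFunctor X y).mapDerivedCategoryFactors.app P'

/-- Restriction to an open immersion preserves injectives. -/
theorem injective_restrict {U X : Scheme.{u}} (j : U ⟶ X) [IsOpenImmersion j] (F : X.Modules) [Injective F] :
    Injective ((Scheme.Modules.restrictFunctor j).obj F) := by
  have h1 := InjMod.injective_restrict j.opensRange F
  have h2 := InjMod.injective_restrict_iso j.isoOpensRange.hom _ h1
  exact Injective.of_iso (((Scheme.Modules.restrictFunctorComp j.isoOpensRange.hom j.opensRange.ι).symm ≪≫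
    Scheme.Modules.restrictFunctorCongr j.isoOpensRange_hom_ι).app F) h2

/-- Maps from a single module into a complex of injectives bounded above vanish in high degrees. -/
theorem single_to_eq_zero {C : Type*} [Category C] [Abelian C] [HasDerivedCategory C] (N : C)
    (L : CochainComplex C ℤ) [L.IsKInjective] (i : ℤ) (hL : IsZero (L.X i))
    (f : (DerivedCategory.singleFunctor C 0).obj N ⟶ (DerivedCategory.Q.obj L)⟦i⟧) : f = 0 := by
  let S := (CochainComplex.singleFunctor C 0).obj N
  let L' : CochainComplex C ℤ := L⟦i⟧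
  let eT : (DerivedCategory.Q.obj L)⟦i⟧ ≅ DerivedCategory.Qh.obj ((HomotopyCategory.quotient C (ComplexShape.up ℤ)).obj L') :=
    ((DerivedCategory.Q.commShiftIso i).app L).symm ≪≫ ((DerivedCategory.quotientCompQhIso C).app L').symm
  let eS : DerivedCategory.Qh.obj ((HomotopyCategory.quotient C (ComplexShape.up ℤ)).obj S) ≅ (DerivedCategory.singleFunctor C 0).obj N :=
    (DerivedCategory.quotientCompQhIso C).app S ≪≫ ((DerivedCategory.singleFunctorIsoCompQ C 0).app N).symm
  obtain ⟨g, hg⟩ := (CochainComplex.IsKInjective.Qh_map_bijective _ L').2 (eS.hom ≫ f ≫ eT.hom)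
  obtain ⟨g', rfl⟩ := (HomotopyCategory.quotient C (ComplexShape.up ℤ)).map_surjective g
  have hg' : g' = 0 := by
    refine HomologicalComplex.hom_ext _ _ fun p => ?_
    by_cases hp : p = 0
    · subst hp
      exact (show IsZero (L'.X 0) from hL.of_iso (eqToIso (congrArg L.X (zero_add i)))).eq_of_tgt _ _
    · exact (HomologicalComplex.isZero_single_obj_X (ComplexShape.up ℤ) 0 N p hp).eq_of_src _ _
  rw [hg', Functor.map_zero, Functor.map_zero] at hg
  rw [← cancel_epi eS.hom, ← cancel_mono eT.hom, comp_zero, zero_comp, Category.assoc, ← hg]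

variable {X : Scheme.{u}}
  [∀ (U : Scheme.{u}) (j : U ⟶ X) [IsOpenImmersion j], PreservesFiniteLimits (Scheme.Modules.restrictFunctor j)]
  [∀ (R : CommRingCat.{u}), PreservesFiniteLimits (tilde.functor R)]

theorem isDualizingSch [IsNoetherian X] (I : CochainComplex X.Modules ℤ) (hIinj : ∀ i : ℤ, Injective (I.X i))
    (hIbdd : ∃ a b : ℤ, ∀ i : ℤ, (i < a ∨ b < i) → IsZero (I.X i))
    (hcoh : ∀ i : ℤ, Coh.IsCoh (DCoh.HD (DCoh.toD X I) i))
    (hst : ∀ x : X, Dual.IsDualizing (X.presheaf.stalk x) (DRing.toD ((StalkCx.stCx x).obj I))) :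
    Dual2.IsDualizingSch X (DCoh.toD X I) := by
  intro A _ j _
  let R : CommRingCat.{u} := CommRingCat.of A
  haveI : IsLocallyNoetherian (Spec R) := isLocallyNoetherian_of_isOpenImmersion j
  haveI : IsNoetherianRing A := by
    have := IsLocallyNoetherian.component_noetherian ⟨⊤, isAffineOpen_top (Spec R)⟩
    exact isNoetherianRing_of_ringEquiv _ (Scheme.ΓSpecIso R).commRingCatIsoToRingEquiv
  haveI : (tilde.functor R).Additive := Functor.additive_of_preserves_binary_products _
  haveI : PreservesFiniteColimits (tilde.functor R) := by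
    have : PreservesColimitsOfSize.{0, 0} (tilde.functor R) :=
      (tilde.adjunction (R := R)).leftAdjoint_preservesColimits
    exact PreservesColimitsOfSize0.preservesFiniteColimits _
  haveI : (tilde.functor R).Faithful := (tilde.fullyFaithfulFunctor (R := R)).faithful
  haveI : (DCoh.tildeD R).Faithful := (TildeD.full_faithful (R := R)).2
  -- the restricted complex
  let L : CochainComplex (Spec R).Modules ℤ := ((Scheme.Modules.restrictFunctor j).mapHomologicalComplex (ComplexShape.up ℤ)).obj I
  let eL : (DCoh.restrictD j).obj (DCoh.toD X I) ≅ DerivedCategory.Q.obj L :=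
    (Scheme.Modules.restrictFunctor j).mapDerivedCategoryFactors.app I
  obtain ⟨a, b, hab⟩ := hIbdd
  have hLz : ∀ i, (i < a ∨ b < i) → IsZero (L.X i) := fun i hi =>
    (Scheme.Modules.restrictFunctor j).map_isZero (hab i hi)
  haveI : L.IsStrictlyGE a := (CochainComplex.isStrictlyGE_iff _ _).mpr fun i hi => hLz i (Or.inl hi)
  haveI : ∀ i, Injective (L.X i) := fun i => @injective_restrict _ _ j _ (I.X i) (hIinj i)
  haveI : L.IsKInjective := CochainComplex.isKInjective_of_injective L a
  have hH : ∀ i, Nonempty ((DerivedCategory.homologyFunctor (Spec R).Modules i).obj ((DCoh.restrictD j).obj (DCoh.toD X I)) ≅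
      (Scheme.Modules.restrictFunctor j).obj (DCoh.HD (DCoh.toD X I) i)) := fun i =>
    ⟨(DerivedCategory.homologyFunctor _ i).mapIso eL ≪≫ (DerivedCategory.homologyFunctorFactors _ i).app L ≪≫
      (I.sc i).mapHomologyIso (Scheme.Modules.restrictFunctor j) ≪≫
      (Scheme.Modules.restrictFunctor j).mapIso ((DerivedCategory.homologyFunctorFactors X.Modules i).app I).symm⟩
  have hC : ∀ i, Coh.IsCoh ((Scheme.Modules.restrictFunctor j).obj (DCoh.HD (DCoh.toD X I) i)) := fun i =>
    ProperFin.isCoh_restrict j (hcoh i)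
  have hQ : DCoh.IsQCohD ((DCoh.restrictD j).obj (DCoh.toD X I)) := fun i => by
    obtain ⟨e⟩ := hH i
    exact (SheafOfModules.isQuasicoherent (Spec R).ringCatSheaf).prop_of_iso e.symm (hC i).1
  obtain ⟨ω, ⟨eω⟩⟩ := TildeD.exists_iso_of_isQCohD (R := R) ((DCoh.restrictD j).obj (DCoh.toD X I)) hQ
  refine ⟨ω, ?_, ⟨eω.symm⟩⟩
  -- cohomology of `ω`
  let P := DerivedCategory.Q.objPreimage ω
  let eP : DRing.toD P ≅ ω := DerivedCategory.Q.objObjPreimageIso ω
  let TP := ((tilde.functor R).mapHomologicalComplex (ComplexShape.up ℤ)).obj P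
  let eTP : (DCoh.tildeD R).obj ω ≅ DerivedCategory.Q.obj TP :=
    (DCoh.tildeD R).mapIso eP.symm ≪≫ (tilde.functor R).mapDerivedCategoryFactors.app P
  have hT : ∀ i, Nonempty ((tilde.functor R).obj (DerivedCategory.homologyFunctor (ModuleCat.{u} A) i |>.obj ω) ≅
      (Scheme.Modules.restrictFunctor j).obj (DCoh.HD (DCoh.toD X I) i)) := fun i => by
    obtain ⟨e⟩ := hH i
    exact ⟨((DerivedCategory.homologyFunctor _ i).mapIso eTP ≪≫ (DerivedCategory.homologyFunctorFactors _ i).app TP ≪≫
      (P.sc i).mapHomologyIso (tilde.functor R) ≪≫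
      (tilde.functor R).mapIso (((DerivedCategory.homologyFunctorFactors _ i).app P).symm ≪≫
        (DerivedCategory.homologyFunctor _ i).mapIso eP)).symm ≪≫
      (DerivedCategory.homologyFunctor _ i).mapIso eω ≪≫ e⟩
  have hfin : ∀ i, Module.Finite A (Dual.HD A ω i) := fun i => by
    obtain ⟨e⟩ := hT i
    exact (Props.QTilde.isFT_iff (R := R) ((DerivedCategory.homologyFunctor (ModuleCat.{u} A) i).obj ω)).1
      (CohDev.isCoh_of_iso e.symm (hC i)).2
  haveI : ω.IsGE a := (DerivedCategory.isGE_iff _ _).mpr fun i hi => by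
    obtain ⟨e⟩ := hT i
    rw [IsZero.iff_id_eq_zero]
    refine (tilde.functor R).map_injective ?_
    refine IsZero.eq_of_src ?_ _ _
    refine IsZero.of_iso ?_ e
    refine (Scheme.Modules.restrictFunctor j).map_isZero ?_
    exact IsZero.of_iso (ShortComplex.isZero_homology_of_isZero_X₂ _ (hab i (Or.inl hi)))
      ((DerivedCategory.homologyFunctorFactors X.Modules i).app I)
  refine LocalGlobal.isDualizing_of_local ω a hfin b (fun i hi m _ => ?_) fun m hm => ?_
  · refine subsingleton_of_forall_eq 0 fun φ => ?_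
    refine (DCoh.tildeD R).map_injective ?_
    rw [Functor.map_zero]
    let eS := ((tilde.functor R).mapDerivedCategorySingleFunctor 0).app (ModuleCat.of A (A ⧸ m))
    let eU : (DCoh.tildeD R).obj (ω⟦i⟧) ≅ (DerivedCategory.Q.obj L)⟦i⟧ :=
      ((DCoh.tildeD R).commShiftIso i).app ω ≪≫ (shiftFunctor _ i).mapIso (eω ≪≫ eL)
    have h0 := single_to_eq_zero _ L i (hLz i (Or.inr hi)) (eS.inv ≫ (DCoh.tildeD R).map φ ≫ eU.hom)
    rw [← cancel_epi eS.inv, ← cancel_mono eU.hom, comp_zero, zero_comp, Category.assoc]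
    exact h0
  -- at a maximal ideal
  let x : Spec R := (⟨m, hm.isPrime⟩ : PrimeSpectrum A)
  let S := (Spec R).presheaf.stalk x
  let φ : R →+* S := TildeKFlat.toLocal R x
  letI algS : Algebra A S := φ.toAlgebra
  haveI : IsLocalization.AtPrime S m := StructureSheaf.IsLocalization.to_stalk _ x
  haveI : Module.Flat A S := IsLocalization.flat S m.primeCompl
  have hdS : Dual.IsDualizing S ((DualCx.BaseChange.FD A S).obj ω) := by
    have h1 : Dual.IsDualizing S (DRing.toD ((StalkCx.stCx x).obj L)) := by
      have h2 := isDualizing_extCx (j.stalkMap x).hom (ConcreteCategory.bijective_of_isIso (j.stalkMap x))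
        _ (hst (j.base x))
      exact FlatBC.isDualizing_of_iso (DerivedCategory.Q.mapIso ((Pull.stPullIso j x I).symm ≪≫
        (StalkCx.stCx x).mapIso ((NatIso.mapHomologicalComplex
          (Scheme.Modules.restrictFunctorIsoPullback j) (ComplexShape.up ℤ)).app I).symm)) h2
    have h3 : Dual.IsDualizing S (DRing.toD ((KFlat.BaseChange.extCx φ).obj P)) :=
      FlatBC.isDualizing_of_iso ((stDIso x (eTP.symm ≪≫ eω ≪≫ eL)).symm ≪≫
        DerivedCategory.Q.mapIso (TildeKFlat.stTildeIso R x P)) h1
    obtain ⟨e⟩ := nonempty_toD_extCx (A := A) (B := S) P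
    exact FlatBC.isDualizing_of_iso (e.symm ≪≫ (DualCx.BaseChange.FD A S).mapIso eP) h3
  let B' := Localization.AtPrime m
  let ψ : S ≃ₐ[A] B' := IsLocalization.algEquiv m.primeCompl S B'
  letI : Algebra S B' := (ψ.toRingEquiv.toRingHom).toAlgebra
  haveI : IsScalarTower A S B' := IsScalarTower.of_algebraMap_eq fun r => (ψ.commutes r).symm
  let eψ : S ≃ₗ[S] B' := LinearEquiv.ofBijective (Algebra.linearMap S B') ψ.bijective
  haveI : Module.Flat S B' := Module.Flat.of_linearEquiv eψ.symm
  haveI : Module.Flat A B' := IsLocalization.flat B' m.primeCompl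
  haveI : IsNoetherianRing B' := IsLocalization.isNoetherianRing m.primeCompl B' inferInstance
  obtain ⟨c⟩ := Comp.nonempty_iso A S B' ω
  exact FlatBC.isDualizing_of_iso c.symm
    (Extended.isDualizing hdS fun q _ => Ideal.map_comap_of_surjective _ ψ.surjective q)

end Groth.Agent.DualSchStalk
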